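import Mathlib

/-! helper7: a Schanuel-type lemma for the naive cotangent complex: the cone of a
quasi-isomorphism of two-term complexes splits; two formally smooth extensions of the same algebra
have stably isomorphic cotangent modules; the localized extension; and the comparison of the
cotangent modules of presentations of `S` and of `S_g` (Stacks 00S1-type statement). -/

set_option autoImplicit false
set_option linter.style.haveILetI false
set_option linter.unusedVariables false
set_option linter.unusedSectionVars false
universe u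
open scoped TensorProduct

noncomputable section

namespace Groth.Agent.Helper7.CotSchanuel

/-- the mapping cone of a quasi-isomorphism of two-term complexes is split exact when the target
degree-zero term is projective -/
theorem nonempty_cone_equiv {T : Type*} [CommRing T] {C₁ C₀ D₁ D₀ : Type*}
    [AddCommGroup C₁] [AddCommGroup C₀] [AddCommGroup D₁] [AddCommGroup D₀]
    [Module T C₁] [Module T C₀] [Module T D₁] [Module T D₀]
    (d : C₁ →ₗ[T] C₀) (d' : D₁ →ₗ[T] D₀) (f₁ : C₁ →ₗ[T] D₁) (f₀ : C₀ →ₗ[T] D₀)
    (comm : ∀ x, f₀ (d x) = d' (f₁ x))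
    (h1i : ∀ x, d x = 0 → f₁ x = 0 → x = 0)
    (h1s : ∀ y, d' y = 0 → ∃ x, d x = 0 ∧ f₁ x = y)
    (h0s : ∀ c : D₀, ∃ a b, f₀ a + d' b = c)
    (h0i : ∀ a : C₀, ∀ b, f₀ a = d' b → ∃ x, d x = a)
    [Module.Projective T D₀] : Nonempty ((C₀ × D₁) ≃ₗ[T] (C₁ × D₀)) := by
  let ι : C₁ →ₗ[T] C₀ × D₁ := (-d).prod f₁
  let π : C₀ × D₁ →ₗ[T] D₀ := f₀.coprod d'
  have hι : Function.Injective ι := by
    rw [injective_iff_map_eq_zero]
    intro x hx
    have h1 : -d x = 0 := congrArg Prod.fst hx
    have h2 : f₁ x = 0 := congrArg Prod.snd hx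
    exact h1i x (neg_eq_zero.mp h1) h2
  have hπ : Function.Surjective π := by
    intro c
    obtain ⟨a, b, h⟩ := h0s c
    exact ⟨(a, b), by simpa [π] using h⟩
  have hex : Function.Exact ι π := by
    intro p
    constructor
    · intro hp
      obtain ⟨a, b⟩ := p
      have hp' : f₀ a + d' b = 0 := by simpa [π] using hp
      obtain ⟨x, hx⟩ := h0i a (-b) (by rw [map_neg]; exact eq_neg_of_add_eq_zero_left hp')
      have h3 : d' (b + f₁ x) = 0 := by
        rw [map_add, ← comm, hx, add_comm]
        exact hp'
      obtain ⟨w, hw1, hw2⟩ := h1s _ h3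
      refine ⟨w - x, ?_⟩
      ext
      · simp [ι, hw1, hx]
      · simp [ι, hw2]
    · rintro ⟨x, rfl⟩
      simp [ι, π, comm]
  obtain ⟨s, hs⟩ := Module.projective_lifting_property π LinearMap.id hπ
  exact ⟨((hex.splitSurjectiveEquiv hι) ⟨s, hs⟩).1⟩

open Algebra

section schanuel
variable {R T : Type u} [CommRing R] [CommRing T] [Algebra R T]
  (P₁ P₂ : Extension.{u} R T) (f : P₁.Hom P₂)

theorem toKaehler_map (x : P₁.CotangentSpace) :
    P₂.toKaehler (Extension.CotangentSpace.map f x) = P₁.toKaehler x := by
  induction x using TensorProduct.induction_on with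
  | zero => simp only [map_zero]
  | add x y hx hy => simp only [map_add, hx, hy]
  | tmul a w =>
    obtain ⟨w, rfl⟩ := KaehlerDifferential.tensorProductTo_surjective _ _ w
    induction w using TensorProduct.induction_on with
    | zero => simp only [map_zero, TensorProduct.tmul_zero]
    | add x y hx hy => simp only [map_add, TensorProduct.tmul_add, hx, hy]
    | tmul b c =>
      simp only [Derivation.tensorProductTo_tmul, TensorProduct.tmul_smul,
        TensorProduct.smul_tmul', Extension.CotangentSpace.map_tmul,
        KaehlerDifferential.mapBaseChange_tmul, KaehlerDifferential.map_D,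
        Extension.Hom.toAlgHom_apply, Extension.Hom.algebraMap_toRingHom]
      simp

include f in
theorem nonempty_schanuel [FormallySmooth R P₁.Ring] [FormallySmooth R P₂.Ring]
    [Module.Projective T P₂.CotangentSpace] :
    Nonempty ((P₁.CotangentSpace × P₂.Cotangent) ≃ₗ[T] (P₁.Cotangent × P₂.CotangentSpace)) := by
  have hbij : Function.Bijective (Extension.H1Cotangent.map f) := by
    rw [← Extension.H1Cotangent.equivOfFormallySmooth_toLinearMap f]
    exact (Extension.H1Cotangent.equivOfFormallySmooth P₁ P₂).bijective
  apply nonempty_cone_equiv P₁.cotangentComplex P₂.cotangentComplex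
    (Extension.Cotangent.map f) (Extension.CotangentSpace.map f)
  · intro x
    exact Extension.CotangentSpace.map_cotangentComplex f x
  · intro x hx hfx
    have h0 : Extension.H1Cotangent.map f ⟨x, hx⟩ = 0 := by
      apply Subtype.ext
      exact hfx
    have := hbij.1 (h0.trans (map_zero _).symm)
    exact congrArg Subtype.val this
  · intro y hy
    obtain ⟨x, hx⟩ := hbij.2 ⟨y, hy⟩
    exact ⟨x.1, x.2, congrArg Subtype.val hx⟩
  · intro c
    obtain ⟨a, ha⟩ := P₁.toKaehler_surjective (P₂.toKaehler c)
    have h1 : P₂.toKaehler (c - Extension.CotangentSpace.map f a) = 0 := by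
      rw [map_sub, toKaehler_map, ha, sub_self]
    obtain ⟨b, hb⟩ := (P₂.exact_cotangentComplex_toKaehler _).mp h1
    exact ⟨a, b, by rw [hb]; abel⟩
  · intro a b h
    have h1 : P₁.toKaehler a = 0 := by
      rw [← toKaehler_map P₁ P₂ f, h]
      exact P₂.exact_cotangentComplex_toKaehler.apply_apply_eq_zero b
    exact (P₁.exact_cotangentComplex_toKaehler a).mp h1

end schanuel

section localize
variable {R S : Type u} [CommRing R] [CommRing S] [Algebra R S] (T : Type u) [CommRing T]
  [Algebra R T] [Algebra S T] [IsScalarTower R S T] (M : Submonoid S) [IsLocalization M T]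
  (P : Extension.{u} R S)

include M in
set_option backward.isDefEq.respectTransparency false in
/-- the localization of a formally smooth extension: an extension of the localized algebra whose
cotangent module and cotangent space are the base changes -/
theorem exists_localized_extension [FormallySmooth R P.Ring] :
    ∃ (Q : Extension.{u} R T), FormallySmooth R Q.Ring ∧
      Nonempty (T ⊗[S] P.Cotangent ≃ₗ[T] Q.Cotangent) ∧
      Nonempty (T ⊗[S] P.CotangentSpace ≃ₗ[T] Q.CotangentSpace) := by
  letI M' := M.comap (algebraMap P.Ring S)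
  letI fQ : Localization M' →ₐ[R] T := IsLocalization.liftAlgHom (M := M')
    (f := (IsScalarTower.toAlgHom R S T).comp (IsScalarTower.toAlgHom R P.Ring S)) (fun ⟨y, hy⟩ ↦
    by simpa using IsLocalization.map_units T ⟨algebraMap P.Ring S y, hy⟩)
  letI Q : Extension R T := .ofSurjective fQ (by
    intro x
    obtain ⟨x, ⟨s, hs⟩, rfl⟩ := IsLocalization.exists_mk'_eq M x
    obtain ⟨x, rfl⟩ := P.algebraMap_surjective x
    obtain ⟨s, rfl⟩ := P.algebraMap_surjective s
    refine ⟨IsLocalization.mk' _ x ⟨s, show s ∈ M' from hs⟩, ?_⟩
    simp only [fQ, IsLocalization.coe_liftAlgHom, AlgHom.toRingHom_eq_coe]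
    rw [IsLocalization.lift_mk'_spec]
    simp)
  letI f : P.Hom Q :=
  { toRingHom := algebraMap P.Ring (Localization M')
    toRingHom_algebraMap x := (IsScalarTower.algebraMap_apply R P.Ring (Localization M') _).symm
    algebraMap_toRingHom x := @IsLocalization.lift_eq .. }
  haveI : FormallySmooth P.Ring (Localization M') := .of_isLocalization M'
  haveI : FormallySmooth R Q.Ring := .comp R P.Ring (Localization M')
  haveI : Module.Flat S T := IsLocalization.flat T M
  letI : Algebra P.Ring Q.Ring := (inferInstance : Algebra P.Ring (Localization M'))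
  letI := ((algebraMap S T).comp (algebraMap P.Ring S)).toAlgebra
  letI := fQ.toRingHom.toAlgebra
  haveI : IsScalarTower P.Ring S T := .of_algebraMap_eq' rfl
  haveI : IsScalarTower P.Ring (Localization M') T :=
    .of_algebraMap_eq fun r ↦ (f.algebraMap_toRingHom r).symm
  haveI : IsLocalizedModule M' (IsScalarTower.toAlgHom P.Ring S T).toLinearMap := by
    rw [isLocalizedModule_iff_isLocalization]
    convert! ‹IsLocalization M T› using 1
    exact Submonoid.map_comap_eq_of_surjective P.algebraMap_surjective _
  refine ⟨Q, inferInstance, ⟨Extension.tensorCotangent f rfl ?_⟩,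
    ⟨Extension.tensorCotangentSpaceOfFormallyEtale f ?_⟩⟩
  · let F : P.ker →ₗ[P.Ring] RingHom.ker fQ := f.mapKer rfl
    refine (isLocalizedModule_iff_isBaseChange M' (Localization M') F).mp ?_
    have : (LinearMap.ker <| Algebra.linearMap P.Ring S).localized' (Localization M') M'
        (Algebra.linearMap P.Ring (Localization M')) = RingHom.ker fQ := by
      rw [LinearMap.localized'_ker_eq_ker_localizedMap (Localization M') M'
        (Algebra.linearMap P.Ring (Localization M'))
        (f' := (IsScalarTower.toAlgHom P.Ring S T).toLinearMap)]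
      ext x
      obtain ⟨x, ⟨s, hs⟩, rfl⟩ := IsLocalization.exists_mk'_eq M' x
      simp only [LinearMap.mem_ker, LinearMap.extendScalarsOfIsLocalization_apply', RingHom.mem_ker,
        IsLocalization.coe_liftAlgHom, AlgHom.toRingHom_eq_coe, IsLocalization.lift_mk'_spec,
        RingHom.coe_coe, AlgHom.coe_comp, IsScalarTower.coe_toAlgHom', Function.comp_apply,
        mul_zero, fQ]
      have : IsLocalization.mk' (Localization M') x ⟨s, hs⟩ =
          IsLocalizedModule.mk' (Algebra.linearMap P.Ring (Localization M')) x ⟨s, hs⟩ := by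
        rw [IsLocalization.mk'_eq_iff_eq_mul, mul_comm, ← Algebra.smul_def, ← Submonoid.smul_def,
          IsLocalizedModule.mk'_cancel']
        rfl
      simp [this, ← IsScalarTower.algebraMap_apply]
    have : F = ((LinearEquiv.ofEq _ _ this).restrictScalars P.Ring).toLinearMap ∘ₗ
      P.ker.toLocalized' (Localization M') M' (Algebra.linearMap P.Ring (Localization M')) := by
      ext; rfl
    rw [this]
    exact IsLocalizedModule.of_linearEquiv _ _ _
  · exact RingHom.formallyEtale_algebraMap.mpr
      (FormallyEtale.of_isLocalization (M := M') (Rₘ := Localization M'))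

end localize

section final

theorem main (R S : Type u) [CommRing R] [CommRing S] [Algebra R S]
    (g : S) (n m : ℕ) (α : MvPolynomial (Fin n) R →ₐ[R] S) (hα : Function.Surjective α)
    (β : MvPolynomial (Fin m) R →ₐ[R] Localization.Away g) (hβ : Function.Surjective β) :
    Nonempty ((LocalizedModule (Submonoid.powers g)
        (Algebra.Extension.ofSurjective α hα).Cotangent ×
        (Fin m → Localization.Away g)) ≃ₗ[Localization.Away g]
      ((Algebra.Extension.ofSurjective β hβ).Cotangent × (Fin n → Localization.Away g))) := by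
  let P := Algebra.Extension.ofSurjective α hα
  let Pβ := Algebra.Extension.ofSurjective β hβ
  haveI : FormallySmooth R P.Ring := inferInstanceAs (FormallySmooth R (MvPolynomial (Fin n) R))
  haveI : FormallySmooth R Pβ.Ring := inferInstanceAs (FormallySmooth R (MvPolynomial (Fin m) R))
  obtain ⟨Q, hQ, ⟨e1⟩, ⟨e2⟩⟩ :=
    exists_localized_extension (Localization.Away g) (Submonoid.powers g) P
  let φ : MvPolynomial (Fin m) R →ₐ[R] Q.Ring :=
    MvPolynomial.aeval (fun j => Q.σ (β (MvPolynomial.X j)))
  have hφ : (IsScalarTower.toAlgHom R Q.Ring (Localization.Away g)).comp φ = β := by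
    apply MvPolynomial.algHom_ext
    intro j
    simp [φ]
  let f' : Pβ.Hom Q :=
  { toRingHom := φ.toRingHom
    toRingHom_algebraMap := fun x => φ.commutes x
    algebraMap_toRingHom := fun x => DFunLike.congr_fun hφ x }
  -- bases
  let bP0 : Module.Basis (Fin n) P.Ring Ω[P.Ring⁄R] :=
    KaehlerDifferential.mvPolynomialBasis R (Fin n)
  let bβ0 : Module.Basis (Fin m) Pβ.Ring Ω[Pβ.Ring⁄R] :=
    KaehlerDifferential.mvPolynomialBasis R (Fin m)
  let bP : Module.Basis (Fin n) S P.CotangentSpace := bP0.baseChange S
  let bβ : Module.Basis (Fin m) (Localization.Away g) Pβ.CotangentSpace :=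
    bβ0.baseChange (Localization.Away g)
  let bQ : Module.Basis (Fin n) (Localization.Away g) (Localization.Away g ⊗[S] P.CotangentSpace) :=
    bP.baseChange (Localization.Away g)
  haveI : Module.Projective (Localization.Away g) Q.CotangentSpace :=
    Module.Projective.of_equiv e2
  obtain ⟨e3⟩ := nonempty_schanuel Pβ Q f'
  let e4 : LocalizedModule (Submonoid.powers g) P.Cotangent ≃ₗ[Localization.Away g] Q.Cotangent :=
    (LocalizedModule.equivTensorProduct (Submonoid.powers g) P.Cotangent).trans e1
  exact ⟨(LinearEquiv.prodComm _ _ _).trans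
    (((LinearEquiv.prodCongr bβ.equivFun.symm e4).trans e3).trans
      (LinearEquiv.prodCongr (LinearEquiv.refl _ _) (e2.symm.trans bQ.equivFun)))⟩

end final

end Groth.Agent.Helper7.CotSchanuel
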